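import Groth.Prelude.Def_BlowUp2
import Mathlib.AlgebraicGeometry.IdealSheaf.Basic
import Mathlib.Order.Minimal

/-!
# Generators of an effective Cartier ideal near finitely many points of an affine open
-/

set_option autoImplicit false
set_option backward.isDefEq.respectTransparency.types false

universe u

open AlgebraicGeometry CategoryTheory TopologicalSpace

namespace Groth.Agent.PinchBl13

variable {X : Scheme.{u}} {U₀ : X.Opens}

/-- restriction -/
noncomputable abbrev rs {U V : X.Opens} (h : V ≤ U) : Γ(X, U) →+* Γ(X, V) := (X.presheaf.map (homOfLE h).op).hom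

theorem rs_rs {U V W : X.Opens} (h : V ≤ U) (h' : W ≤ V) (a : Γ(X, U)) : rs h' (rs h a) = rs (h'.trans h) a := by
  rw [← CommRingCat.comp_apply, ← X.presheaf.map_comp]
  rfl

/-- `a` generates `I` near `x`. -/
def Gens (I : X.IdealSheafData) (a : Γ(X, U₀)) (x : X) : Prop :=
  ∃ (W : X.affineOpens) (h : W.1 ≤ U₀), x ∈ W.1 ∧ I.ideal W = Ideal.span {rs h a}

theorem ideal_le_of_gens {I : X.IdealSheafData} {a : Γ(X, U₀)} {W V : X.affineOpens} (h : W.1 ≤ U₀) (hV : V.1 ≤ W.1)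
    (e : I.ideal W = Ideal.span {rs h a}) : I.ideal V = Ideal.span {rs (hV.trans h) a} := by
  rw [← I.map_ideal hV, e, Ideal.map_span, Set.image_singleton]
  exact congrArg (fun z : Γ(X, V.1) => Ideal.span {z}) (rs_rs h hV a)

theorem exists_gens (I : X.IdealSheafData) (hI : BlowUp.IsEffCartierIdeal I) (hU₀ : IsAffineOpen U₀)
    {x : X} (hx : x ∈ U₀) : ∃ b ∈ I.ideal ⟨U₀, hU₀⟩, Gens I b x := by
  obtain ⟨W, hxW, φ, -, hφ⟩ := hI x
  obtain ⟨r, hr, hxr⟩ := hU₀.exists_basicOpen_le (V := W.1) ⟨x, hxW⟩ hx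
  let D : X.affineOpens := ⟨X.basicOpen r, hU₀.basicOpen r⟩
  have hD : D.1 ≤ U₀ := X.basicOpen_le r
  have e1 : I.ideal D = Ideal.span {rs (hr : D.1 ≤ W.1) φ} := by
    rw [← I.map_ideal (U := D) (V := W) hr, hφ, Ideal.map_span, Set.image_singleton]
    rfl
  haveI := hU₀.isLocalization_basicOpen r
  have e2 : rs (hr : D.1 ≤ W.1) φ ∈ (I.ideal ⟨U₀, hU₀⟩).map (algebraMap Γ(X, U₀) Γ(X, X.basicOpen r)) := by
    have := e1.ge (Ideal.mem_span_singleton_self _)
    rw [← I.map_ideal (U := D) (V := ⟨U₀, hU₀⟩) hD] at this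
    exact this
  obtain ⟨⟨⟨b, hb⟩, ⟨_, n, rfl⟩⟩, hn⟩ := (IsLocalization.mem_map_algebraMap_iff (Submonoid.powers r) _).1 e2
  refine ⟨b, hb, D, hD, hxr, e1.trans ?_⟩
  have hu : IsUnit (algebraMap Γ(X, U₀) Γ(X, X.basicOpen r) (r ^ n)) :=
    IsLocalization.map_units (M := Submonoid.powers r) Γ(X, X.basicOpen r) ⟨_, n, rfl⟩
  rw [← Ideal.span_singleton_mul_right_unit hu (rs (hr : D.1 ≤ W.1) φ)]
  exact congrArg (fun z : Γ(X, D.1) => Ideal.span {z}) hn

theorem exists_gens_finset (I : X.IdealSheafData) (hI : BlowUp.IsEffCartierIdeal I) (hU₀ : IsAffineOpen U₀)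
    (s : Finset X) (hs : ∀ x ∈ s, x ∈ U₀) : ∃ a ∈ I.ideal ⟨U₀, hU₀⟩, ∀ x ∈ s, Gens I a x := by
  classical
  induction s using Finset.strongInduction with
  | H s ih =>
    rcases s.eq_empty_or_nonempty with rfl | hne
    · exact ⟨0, zero_mem _, by simp⟩
    let P : {x // x ∈ s} → Ideal Γ(X, U₀) := fun x => (hU₀.primeIdealOf ⟨x.1, hs _ x.2⟩).asIdeal
    haveI : Nonempty {x // x ∈ s} := hne.to_subtype
    obtain ⟨p, -, hmin⟩ := (Finset.univ : Finset {x // x ∈ s}).exists_minimalFor P Finset.univ_nonempty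
    have hinj : ∀ q, P q = P p → q = p := fun q h => by
      have e := congrArg hU₀.fromSpec (PrimeSpectrum.ext h : hU₀.primeIdealOf ⟨q.1, hs _ q.2⟩ = hU₀.primeIdealOf ⟨p.1, hs _ p.2⟩)
      rw [hU₀.fromSpec_primeIdealOf, hU₀.fromSpec_primeIdealOf] at e
      exact Subtype.ext e
    obtain ⟨a, ha, hga⟩ := ih (s.erase p.1) (Finset.erase_ssubset p.2) fun x hx => hs x (Finset.mem_of_mem_erase hx)
    by_cases hp : Gens I a p.1
    · exact ⟨a, ha, fun x hx => if hxp : x = p.1 then hxp ▸ hp else hga x (Finset.mem_erase.2 ⟨hxp, hx⟩)⟩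
    have hmemP : ∀ (q : {x // x ∈ s}) (c : Γ(X, U₀)), q.1 ∈ X.basicOpen c ↔ c ∉ P q := fun q c => by
      have h := SetLike.ext_iff.1 (hU₀.fromSpec_preimage_basicOpen c) (hU₀.primeIdealOf ⟨q.1, hs _ q.2⟩)
      change hU₀.fromSpec (hU₀.primeIdealOf ⟨q.1, hs _ q.2⟩) ∈ X.basicOpen c ↔ _ at h
      rw [hU₀.fromSpec_primeIdealOf] at h
      exact h
    have hsep : ∀ q : {x // x ∈ s}, q ≠ p → ∃ c ∈ P q, c ∉ P p := fun q hq =>
      SetLike.not_le_iff_exists.1 fun hle => hq (hinj q (le_antisymm hle (hmin (Finset.mem_univ q) hle)))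
    choose c hcq hcp using hsep
    let cc : Γ(X, U₀) := ∏ q ∈ (Finset.univ.erase p).attach, c q.1 (Finset.ne_of_mem_erase q.2)
    have hccp : cc ∉ P p := fun h => by
      haveI : (P p).IsPrime := PrimeSpectrum.isPrime _
      obtain ⟨q, -, hq⟩ := Ideal.IsPrime.prod_mem_iff.1 h
      exact hcp _ _ hq
    have hccq : ∀ q, q ≠ p → cc ∈ P q := fun q hq =>
      Ideal.mem_of_dvd _ (Finset.dvd_prod_of_mem (fun r : {r // r ∈ Finset.univ.erase p} => c r.1 (Finset.ne_of_mem_erase r.2))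
        (Finset.mem_attach _ ⟨q, Finset.mem_erase.2 ⟨hq, Finset.mem_univ q⟩⟩)) (hcq q hq)
    obtain ⟨b, hb, W, hW, hpW, hWb⟩ := exists_gens I hI hU₀ (hs _ p.2)
    refine ⟨a + cc * b, add_mem ha (Ideal.mul_mem_left _ _ hb), fun x hx => ?_⟩
    by_cases hxp : x = p.1
    · subst hxp
      have haW : rs hW a ∈ I.ideal W := I.ideal_le_comap_ideal (U := W) (V := ⟨U₀, hU₀⟩) hW ha
      obtain ⟨t, ht⟩ := Ideal.mem_span_singleton'.1 (hWb.le haW)
      have hunit : ∀ u : Γ(X, W.1), p.1 ∈ X.basicOpen u → ∀ z : Γ(X, U₀), rs hW z = u * rs hW b → Gens I z p.1 := by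
        intro u hu z hz
        refine ⟨⟨X.basicOpen u, W.2.basicOpen u⟩, (X.basicOpen_le u).trans hW, hu, ?_⟩
        refine (ideal_le_of_gens hW (X.basicOpen_le u) hWb).trans ?_
        have h1 : rs ((X.basicOpen_le u).trans hW) z = rs (X.basicOpen_le u) u * rs ((X.basicOpen_le u).trans hW) b := by
          rw [← rs_rs hW (X.basicOpen_le u) z, hz, map_mul, rs_rs]
        rw [h1]
        exact (Ideal.span_singleton_mul_left_unit
          (RingedSpace.isUnit_res_basicOpen X.toRingedSpace u) _).symm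
      refine hunit (t + rs hW cc) ?_ _ (by rw [map_add, map_mul, ← ht]; ring)
      rw [X.mem_basicOpen _ _ hpW, map_add]
      have h1 : IsUnit (X.presheaf.germ W.1 p.1 hpW (rs hW cc)) := by
        rw [← X.mem_basicOpen _ _ hpW, Scheme.basicOpen_res]
        exact ⟨hpW, (hmemP p cc).2 hccp⟩
      have h2 : ¬ IsUnit (X.presheaf.germ W.1 p.1 hpW t) := fun h =>
        hp (hunit t ((X.mem_basicOpen _ _ hpW).2 h) a ht.symm)
      by_contra h3
      exact (IsLocalRing.nonunits_add (a := X.presheaf.germ W.1 p.1 hpW t + X.presheaf.germ W.1 p.1 hpW (rs hW cc))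
        (b := - X.presheaf.germ W.1 p.1 hpW t) h3 (by simpa [mem_nonunits_iff] using h2)) (by simpa using h1)
    · obtain ⟨W', hW', hxW', hW'a⟩ := hga x (Finset.mem_erase.2 ⟨hxp, hx⟩)
      have hbW : rs hW' b ∈ I.ideal W' := I.ideal_le_comap_ideal (U := W') (V := ⟨U₀, hU₀⟩) hW' hb
      obtain ⟨t, ht⟩ := Ideal.mem_span_singleton'.1 (hW'a.le hbW)
      let u : Γ(X, W'.1) := 1 + rs hW' cc * t
      have hu : x ∈ X.basicOpen u := by
        rw [X.mem_basicOpen _ _ hxW']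
        have h1 : ¬ IsUnit (X.presheaf.germ W'.1 x hxW' (rs hW' cc * t)) := fun h => by
          rw [map_mul] at h
          have h' := (X.mem_basicOpen _ _ hxW').2 (isUnit_of_mul_isUnit_left h)
          rw [Scheme.basicOpen_res] at h'
          exact (hmemP ⟨x, hx⟩ cc).1 h'.2 (hccq ⟨x, hx⟩ fun e => hxp (congrArg Subtype.val e))
        rw [map_add, map_one]
        by_contra h3
        exact (IsLocalRing.nonunits_add h3 (b := - X.presheaf.germ W'.1 x hxW' (rs hW' cc * t))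
          (by simpa [mem_nonunits_iff] using h1)) (by simp)
      refine ⟨⟨X.basicOpen u, W'.2.basicOpen u⟩, (X.basicOpen_le u).trans hW', hu, ?_⟩
      refine (ideal_le_of_gens hW' (X.basicOpen_le u) hW'a).trans ?_
      have hz : rs hW' (a + cc * b) = u * rs hW' a := by
        rw [map_add, map_mul, ← ht]
        ring
      have h1 : rs ((X.basicOpen_le u).trans hW') (a + cc * b) =
          rs (X.basicOpen_le u) u * rs ((X.basicOpen_le u).trans hW') a := by
        rw [← rs_rs hW' (X.basicOpen_le u) (a + cc * b), hz, map_mul, rs_rs]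
      rw [h1]
      exact (Ideal.span_singleton_mul_left_unit (RingedSpace.isUnit_res_basicOpen X.toRingedSpace u) _).symm

/-- An element generating near every point generates, and is a nonzerodivisor. -/
theorem ideal_eq_span_of_gens (I : X.IdealSheafData) (hI : BlowUp.IsEffCartierIdeal I) {U : X.Opens}
    (hU : IsAffineOpen U) (hle : U ≤ U₀) (a : Γ(X, U₀)) (ha : rs hle a ∈ I.ideal ⟨U, hU⟩)
    (h : ∀ x ∈ U, Gens I a x) :
    I.ideal ⟨U, hU⟩ = Ideal.span {rs hle a} ∧ rs hle a ∈ nonZeroDivisors Γ(X, U) := by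
  have key : ∀ x ∈ U, ∃ r : Γ(X, U), x ∈ X.basicOpen r ∧
      I.ideal ⟨X.basicOpen r, hU.basicOpen r⟩ = Ideal.span {rs (X.basicOpen_le r) (rs hle a)} := by
    intro x hx
    obtain ⟨W, hW, hxW, hWa⟩ := h x hx
    obtain ⟨r, hr, hxr⟩ := hU.exists_basicOpen_le (V := W.1) ⟨x, hxW⟩ hx
    exact ⟨r, hxr, (ideal_le_of_gens (V := ⟨X.basicOpen r, hU.basicOpen r⟩) hW hr hWa).trans
      (congrArg (fun z : Γ(X, X.basicOpen r) => Ideal.span {z}) (rs_rs hle (X.basicOpen_le r) a).symm)⟩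
  constructor
  · refine le_antisymm (fun z hz => ?_) ((Ideal.span_singleton_le_iff_mem _).2 ha)
    let J : Ideal Γ(X, U) := (Ideal.span {rs hle a}).colon (Set.singleton z)
    suffices hJ : J = ⊤ by
      have h1 : (1 : Γ(X, U)) ∈ J := hJ ▸ Submodule.mem_top
      simpa using Submodule.mem_colon.1 h1 z rfl
    by_contra hJ
    obtain ⟨m, hm, hJm⟩ := Ideal.exists_le_maximal J hJ
    let y : PrimeSpectrum Γ(X, U) := ⟨m, hm.isPrime⟩
    obtain ⟨r, hxr, hr⟩ := key (hU.fromSpec y) (hU.range_fromSpec.le ⟨y, rfl⟩)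
    haveI := hU.isLocalization_basicOpen r
    have hz' : algebraMap Γ(X, U) Γ(X, X.basicOpen r) z ∈
        (Ideal.span {rs hle a}).map (algebraMap Γ(X, U) Γ(X, X.basicOpen r)) := by
      rw [Ideal.map_span, Set.image_singleton]
      exact hr.le (I.ideal_le_comap_ideal (U := ⟨X.basicOpen r, hU.basicOpen r⟩) (V := ⟨U, hU⟩) (X.basicOpen_le r) hz)
    obtain ⟨_, ⟨n, rfl⟩, hn⟩ := (IsLocalization.algebraMap_mem_map_algebraMap_iff (Submonoid.powers r) _ _ _).1 hz'
    have hrJ : r ^ n ∈ J := Submodule.mem_colon.2 fun w hw => by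
      rw [show w = z from hw, smul_eq_mul]; exact hn
    have hrm : r ∈ m := hm.isPrime.mem_of_pow_mem n (hJm hrJ)
    have h1 : y ∈ hU.fromSpec ⁻¹ᵁ X.basicOpen r := hxr
    rw [hU.fromSpec_preimage_basicOpen] at h1
    exact h1 hrm
  · refine mem_nonZeroDivisors_iff_right.2 fun z hz => ?_
    refine TopCat.Presheaf.section_ext X.sheaf U z 0 fun x hx => ?_
    obtain ⟨W, hxW, φ, hφ, hWφ⟩ := hI x
    obtain ⟨W', hW', hxW', hW'a⟩ := h x hx
    obtain ⟨V, hV, hxV, hVW⟩ := exists_isAffineOpen_mem_and_subset (x := x) (U := W.1 ⊓ W'.1 ⊓ U) ⟨⟨hxW, hxW'⟩, hx⟩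
    obtain ⟨r, hr, hxr⟩ := W.2.exists_basicOpen_le (V := V) ⟨x, hxV⟩ hxW
    let D : X.affineOpens := ⟨X.basicOpen r, W.2.basicOpen r⟩
    have hDW : D.1 ≤ W.1 := X.basicOpen_le r
    have hDU : D.1 ≤ U := hr.trans fun _ h => (hVW h).2
    have hDW' : D.1 ≤ W'.1 := hr.trans fun _ h => (hVW h).1.2
    haveI := W.2.isLocalization_basicOpen r
    have hφD : rs hDW φ ∈ nonZeroDivisors Γ(X, D.1) :=
      IsLocalization.map_nonZeroDivisors_le (Submonoid.powers r) Γ(X, X.basicOpen r) ⟨φ, hφ, rfl⟩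
    have e1 : I.ideal D = Ideal.span {rs hDW φ} := by
      rw [← I.map_ideal (U := D) (V := W) hDW, hWφ, Ideal.map_span, Set.image_singleton]
      rfl
    obtain ⟨t, ht⟩ := Ideal.mem_span_singleton'.1
      ((ideal_le_of_gens hW' hDW' hW'a).le (e1.ge (Ideal.mem_span_singleton_self _)))
    have h0 : rs hDU z * rs (hDW'.trans hW') a = 0 := by
      rw [← rs_rs hle hDU a, ← map_mul, hz, map_zero]
    have hzD : rs hDU z = 0 := (mem_nonZeroDivisors_iff_right.1 hφD) _ (by rw [← ht, mul_left_comm, h0, mul_zero])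
    have h2 := congrArg (X.presheaf.germ D.1 x hxr) hzD
    rw [map_zero, TopCat.Presheaf.germ_res_apply] at h2
    exact h2.trans (map_zero (X.presheaf.germ U x hx).hom).symm

end Groth.Agent.PinchBl13
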