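import Groth.Agent.FlatCxLib.Algebra
import Groth.Agent.KerEval.Square
import Mathlib.RingTheory.RingHom.Flat

/-!
# Flatness of the thickenings of the conductor in a pinching
-/

set_option autoImplicit false

universe u

open Groth.Agent.KerEval

namespace Groth.Agent.PinchBl13

variable {R B : Type u} [CommRing R] [CommRing B] [Algebra R B]

/-- Flatness of `B/(a^m)` from that of `B/(a)`. -/
theorem flat_quot_pow (a : B) (ha : a ∈ nonZeroDivisors B) [Module.Flat R (B ⧸ Ideal.span {a})] :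
    ∀ m : ℕ, Module.Flat R (B ⧸ Ideal.span {a ^ m})
  | 0 => by
    haveI : Subsingleton (B ⧸ Ideal.span {a ^ 0}) := Ideal.Quotient.subsingleton_iff.2 (by simp)
    infer_instance
  | m + 1 => by
    haveI := flat_quot_pow a ha m
    let i : (B ⧸ Ideal.span {a ^ m}) →ₗ[B] B ⧸ Ideal.span {a ^ (m + 1)} :=
      Submodule.mapQ _ _ (LinearMap.mulLeft B a) (fun x hx => by
        obtain ⟨c, rfl⟩ := Ideal.mem_span_singleton'.1 hx
        exact Ideal.mem_span_singleton'.2 ⟨c, by rw [LinearMap.mulLeft_apply, pow_succ]; ring⟩)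
    let p : (B ⧸ Ideal.span {a ^ (m + 1)}) →ₗ[B] B ⧸ Ideal.span {a} :=
      Submodule.mapQ _ _ LinearMap.id (fun x hx => by
        obtain ⟨c, rfl⟩ := Ideal.mem_span_singleton'.1 hx
        exact Ideal.mem_span_singleton'.2 ⟨c * a ^ m, (by rw [pow_succ, mul_assoc] : _)⟩)
    refine FlatCxLib.flat_of_exact_mid (i.restrictScalars R) (p.restrictScalars R) ?_ ?_ ?_
    · intro y
      obtain ⟨y, rfl⟩ := Submodule.Quotient.mk_surjective _ y
      constructor
      · intro h
        obtain ⟨c, hc⟩ := Ideal.mem_span_singleton'.1 ((Submodule.Quotient.mk_eq_zero _).1 h)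
        refine ⟨Submodule.Quotient.mk c, congrArg Submodule.Quotient.mk ?_⟩
        show a * c = y
        rw [mul_comm]; exact hc
      · rintro ⟨c, hc⟩
        obtain ⟨c, rfl⟩ := Submodule.Quotient.mk_surjective _ c
        rw [← hc]
        exact (Submodule.Quotient.mk_eq_zero _).2 (Ideal.mem_span_singleton'.2 ⟨c, mul_comm c a⟩)
    · intro y
      obtain ⟨y, rfl⟩ := Submodule.Quotient.mk_surjective _ y
      exact ⟨Submodule.Quotient.mk y, rfl⟩
    · refine (injective_iff_map_eq_zero _).2 fun y hy => ?_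
      obtain ⟨y, rfl⟩ := Submodule.Quotient.mk_surjective _ y
      obtain ⟨c, hc⟩ := Ideal.mem_span_singleton'.1 ((Submodule.Quotient.mk_eq_zero _).1 hy)
      refine (Submodule.Quotient.mk_eq_zero _).2 (Ideal.mem_span_singleton'.2 ⟨c, ?_⟩)
      refine (mul_cancel_right_mem_nonZeroDivisors ha).1 ?_
      change c * a ^ (m + 1) = a * y at hc
      rw [mul_assoc, ← pow_succ, hc, mul_comm]

section Square

variable {C A D : Type u} [CommRing C] [CommRing A] [CommRing D] (S : Sq C A B D)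

theorem exists_lift_ker {x : B} (hx : S.p x = 0) : ∃ c ∈ RingHom.ker S.f, S.g c = x := by
  obtain ⟨c, hc, hc'⟩ := S.exist 0 x (by rw [map_zero, hx])
  exact ⟨c, hc, hc'⟩

theorem g_injective (hq : Function.Injective S.q) : Function.Injective S.g := fun c c' h =>
  S.ext c c' (hq (by rw [S.comm, S.comm, h])) h

theorem map_g_ker (a : B) (hp : RingHom.ker S.p = Ideal.span {a}) :
    (RingHom.ker S.f).map S.g = Ideal.span {a} ∧
      ((RingHom.ker S.f).map S.g : Set B) ⊆ S.g '' (RingHom.ker S.f : Set C) := by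
  have h1 : ∀ c ∈ RingHom.ker S.f, S.g c ∈ RingHom.ker S.p := fun c hc => by
    rw [RingHom.mem_ker, ← S.comm, RingHom.mem_ker.1 hc, map_zero]
  have h2 : (RingHom.ker S.f).map S.g = RingHom.ker S.p := le_antisymm (Ideal.map_le_iff_le_comap.2 h1) fun x hx => by
    obtain ⟨c, hc, rfl⟩ := exists_lift_ker S hx
    exact Ideal.mem_map_of_mem _ hc
  refine ⟨h2.trans hp, fun x hx => ?_⟩
  obtain ⟨c, hc, rfl⟩ := exists_lift_ker S (h2 ▸ hx : x ∈ RingHom.ker S.p)
  exact ⟨c, hc, rfl⟩

theorem map_g_ker_pow (a : B) (hp : RingHom.ker S.p = Ideal.span {a}) (m : ℕ) (x : B) :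
    x ∈ Ideal.span {a ^ (m + 1)} ↔ ∃ c ∈ RingHom.ker S.f ^ (m + 1), S.g c = x := by
  constructor
  · intro hx
    obtain ⟨β, rfl⟩ := Ideal.mem_span_singleton'.1 hx
    obtain ⟨c₁, hc₁, hg₁⟩ := exists_lift_ker S (x := a) (RingHom.mem_ker.1 (hp ▸ Ideal.mem_span_singleton_self a))
    obtain ⟨c₂, hc₂, hg₂⟩ := exists_lift_ker S (x := β * a)
      (RingHom.mem_ker.1 (hp ▸ Ideal.mul_mem_left _ β (Ideal.mem_span_singleton_self a)))
    refine ⟨c₁ ^ m * c₂, ?_, ?_⟩
    · rw [pow_succ]
      exact Ideal.mul_mem_mul (Ideal.pow_mem_pow hc₁ m) hc₂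
    · rw [map_mul, map_pow, hg₁, hg₂, pow_succ]
      ring
  · rintro ⟨c, hc, rfl⟩
    rw [← Ideal.span_singleton_pow, ← hp]
    have := Ideal.mem_map_of_mem S.g hc
    rw [Ideal.map_pow] at this
    refine Ideal.pow_right_mono (Ideal.map_le_iff_le_comap.2 fun c' hc' => ?_) _ this
    rw [Ideal.mem_comap, RingHom.mem_ker, ← S.comm, RingHom.mem_ker.1 hc', map_zero]

/-- The thickenings of the conductor are flat. -/
theorem flat_quot_ker_pow (ρ : R →+* C) (halg : algebraMap R B = S.g.comp ρ)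
    (a : B) (ha : a ∈ nonZeroDivisors B) (hp : RingHom.ker S.p = Ideal.span {a})
    (hq : Function.Injective S.q) (hA : (S.f.comp ρ).Flat) (hD : (S.p.comp (S.g.comp ρ)).Flat) (m : ℕ) :
    ((Ideal.Quotient.mk (RingHom.ker S.f ^ (m + 1))).comp ρ).Flat := by
  algebraize [ρ]
  letI : Algebra R A := (S.f.comp ρ).toAlgebra
  letI : Algebra R D := (S.p.comp (S.g.comp ρ)).toAlgebra
  haveI : Module.Flat R A := hA
  haveI : Module.Flat R D := hD
  haveI : Module.Flat R (B ⧸ Ideal.span {a}) := by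
    let πp : B →ₐ[R] D := { S.p with commutes' := fun r => by rw [halg]; rfl }
    have hk : RingHom.ker πp = Ideal.span {a} := hp
    exact Module.Flat.of_linearEquiv ((Ideal.quotientEquivAlgOfEq R hk.symm).trans
      (Ideal.quotientKerAlgEquivOfSurjective (f := πp) S.surj)).toLinearEquiv
  haveI := flat_quot_pow (R := R) a ha m
  let K := RingHom.ker S.f
  let sec : B → C := fun β => (exists_lift_ker S (x := a * β)
    (RingHom.mem_ker.1 (hp ▸ Ideal.mul_mem_right β _ (Ideal.mem_span_singleton_self a)))).choose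
  have hsec : ∀ β, sec β ∈ K ∧ S.g (sec β) = a * β := fun β => (exists_lift_ker S (x := a * β)
    (RingHom.mem_ker.1 (hp ▸ Ideal.mul_mem_right β _ (Ideal.mem_span_singleton_self a)))).choose_spec
  have hginj := g_injective S hq
  have hlin : ∀ (r : R) β, sec (r • β) = ρ r * sec β := fun r β => hginj (by
    rw [map_mul, (hsec _).2, (hsec _).2, Algebra.smul_def, halg, RingHom.comp_apply]
    ring)
  let i₀ : B →ₗ[R] C ⧸ K ^ (m + 1) :=
    { toFun := fun β => Ideal.Quotient.mk _ (sec β)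
      map_add' := fun x y => by
        rw [← map_add]
        exact congrArg _ (hginj (by rw [map_add, (hsec _).2, (hsec _).2, (hsec _).2, mul_add]))
      map_smul' := fun r x => by
        rw [RingHom.id_apply, hlin, map_mul, Algebra.smul_def]
        rfl }
  have hi₀ : (Ideal.span {a ^ m}).restrictScalars R ≤ LinearMap.ker i₀ := fun x hx => by
    obtain ⟨β, rfl⟩ := Ideal.mem_span_singleton'.1 hx
    refine Ideal.Quotient.eq_zero_iff_mem.2 ?_
    obtain ⟨c, hc, hgc⟩ := (map_g_ker_pow S a hp m (β * a ^ (m + 1))).1 (Ideal.mem_span_singleton'.2 ⟨β, rfl⟩)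
    have : sec (β * a ^ m) = c := hginj (by rw [(hsec _).2, hgc, pow_succ]; ring)
    exact this ▸ hc
  let i : (B ⧸ Ideal.span {a ^ m}) →ₗ[R] C ⧸ K ^ (m + 1) :=
    ((Ideal.span {a ^ m}).restrictScalars R).liftQ i₀ hi₀ ∘ₗ
      (Submodule.Quotient.restrictScalarsEquiv R (Ideal.span {a ^ m})).symm.toLinearMap
  have hi : ∀ β, i (Submodule.Quotient.mk β) = Ideal.Quotient.mk _ (sec β) := fun β => rfl
  let p : (C ⧸ K ^ (m + 1)) →ₗ[R] A :=
    { toFun := fun z => Ideal.Quotient.lift (K ^ (m + 1)) S.f (fun c hc => Ideal.pow_le_self m.succ_ne_zero hc) z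
      map_add' := map_add _
      map_smul' := fun r z => by
        obtain ⟨c, rfl⟩ := Ideal.Quotient.mk_surjective z
        rw [RingHom.id_apply, Algebra.smul_def r (Ideal.Quotient.mk _ c), map_mul, Algebra.smul_def]
        rfl }
  refine FlatCxLib.flat_of_exact_mid i p ?_ ?_ ?_
  · intro z
    obtain ⟨c, rfl⟩ := Ideal.Quotient.mk_surjective z
    constructor
    · intro hc
      have hcK : c ∈ K := hc
      obtain ⟨β, hβ⟩ := Ideal.mem_span_singleton'.1 (hp ▸ (RingHom.mem_ker.2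
        (by rw [← S.comm, RingHom.mem_ker.1 hcK, map_zero]) : S.g c ∈ RingHom.ker S.p))
      refine ⟨Submodule.Quotient.mk β, ?_⟩
      refine (hi β).trans ?_
      exact congrArg _ (hginj (by rw [(hsec _).2, ← hβ, mul_comm]))
    · rintro ⟨y, hy⟩
      obtain ⟨β, rfl⟩ := Submodule.Quotient.mk_surjective _ y
      replace hy := (hi β).symm.trans hy
      rw [← hy]
      exact (hsec β).1
  · intro y
    obtain ⟨c, rfl⟩ := S.f_surj y
    exact ⟨Ideal.Quotient.mk _ c, rfl⟩
  · refine (injective_iff_map_eq_zero _).2 fun y hy => ?_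
    obtain ⟨β, rfl⟩ := Submodule.Quotient.mk_surjective _ y
    replace hy := (hi β).symm.trans hy
    obtain ⟨d, hd⟩ := Ideal.mem_span_singleton'.1
      ((map_g_ker_pow S a hp m _).2 ⟨sec β, Ideal.Quotient.eq_zero_iff_mem.1 hy, (hsec β).2⟩)
    refine (Submodule.Quotient.mk_eq_zero _).2 (Ideal.mem_span_singleton'.2 ⟨d, ?_⟩)
    refine (mul_cancel_right_mem_nonZeroDivisors ha).1 ?_
    rw [mul_assoc, ← pow_succ, hd, mul_comm]

end Square

end Groth.Agent.PinchBl13
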